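import Groth.Agent.VecBal.K812.Iface
import Groth.Agent.CurvSt.K310.ExistsCurve
import Groth.Agent.Curves.K321.RankTwo
import Groth.Agent.Krr.H495.Rank
import Groth.Agent.S1524
import Groth.Agent.VarietyA.EulerAdd
import Groth.Agent.CurvesB.VABaseChange
import Groth.Agent.Sga2lef.H298.VanX0Core
import Groth.Agent.Desc.FinLocFreeSections
import Groth.Agent.PerfB.FibreConc
import Groth.Agent.CurvesC.DegIso
import Groth.Agent.PerfA.CohSerre

/-!
# Properly balanced bundles on smooth curves

* `exists_bundle`: a smooth proper curve over an algebraically closed field carries bundles of every rank `≥ 1` and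
  every degree;
* `balanced_of_irreducible`: on an integral curve of genus `g` every bundle of degree `d` satisfies the basic inequality;
* `isAdmissible_of_irreducible`: an irreducible curve has no exceptional component, so admissibility is vacuous;
* `main`: the fibres of `VecBal.Vecrdg (Spec k) g r d` over geometric points are nonempty.
-/

set_option autoImplicit false
set_option linter.style.haveILetI false

universe u

open CategoryTheory CategoryTheory.Limits AlgebraicGeometry

namespace Groth.Agent.VecBal.K247.NonemptyObj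

open Groth.Agent

section Bundle

variable (k : Type u) [Field k] {X : Scheme.{u}} [X.Over (Spec (CommRingCat.of k))]
  [IsProper (X ↘ (Spec (CommRingCat.of k)))]

theorem isFinLocFree_of_rank {Y : Scheme.{u}} {n : ℕ} {E : Y.Modules} (hE : FlatMod.IsFinLocFreeOfRank n E) :
    FlatMod.IsFinLocFree E := by
  intro x
  obtain ⟨U, hU, e⟩ := hE x
  exact ⟨U, n, hU, e⟩

/-- Adding a trivial line bundle adds one to the rank and does not change the degree. -/
theorem deg_biprod_structure {n : ℕ} {E : X.Modules} (hE : FlatMod.IsFinLocFreeOfRank n E) :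
    FlatMod.IsFinLocFreeOfRank (n + 1) (E ⊞ Coh.structureModule X) ∧
      Curv2.deg k X (E ⊞ Coh.structureModule X) (n + 1) = Curv2.deg k X E n := by
  have hO : FlatMod.IsFinLocFreeOfRank 1 (Coh.structureModule X) :=
    Ega2.QCohLocal.isFinLocFreeOfRank_one_iff.2 (Fdesc.LocGen.isInvertible_structureModule)
  have hr := Krr.H495.Rank.rank_biprod hE hO
  refine ⟨hr, ?_⟩
  have hS := Krr.H495.Rank.shortExact_biprod E (Coh.structureModule X)
  have h1 := Groth.Agent.S1524.result k X _ hS (PerfA.CohSerre.isCoh_of_isFinLocFree (isFinLocFree_of_rank hE))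
    (PerfA.CohSerre.isCoh_of_isFinLocFree (isFinLocFree_of_rank hr))
    (PerfA.CohSerre.isCoh_of_isFinLocFree (isFinLocFree_of_rank hO))
  unfold Curv2.deg
  have h2 : Curv2.euler k X (E ⊞ Coh.structureModule X) =
      Curv2.euler k X E + Curv2.euler k X (Coh.structureModule X) := h1
  rw [h2]
  push_cast
  ring

/-- Bundles of every rank `≥ 1` and every degree. -/
theorem exists_bundle [IsAlgClosed k] [IsIntegral X] [Smooth (X ↘ (Spec (CommRingCat.of k)))]
    (hdim : topologicalKrullDim X = 1) (d : ℤ) (r : ℕ) :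
    ∃ E : X.Modules, FlatMod.IsFinLocFreeOfRank (r + 1) E ∧ Curv2.deg k X E (r + 1) = d := by
  induction r with
  | zero =>
    obtain ⟨N, hN, hd⟩ := K321.RankTwo.exists_degree k hdim d
    exact ⟨N, Ega2.QCohLocal.isFinLocFreeOfRank_one_iff.2 hN, hd⟩
  | succ r ih =>
    obtain ⟨E, hE, hd⟩ := ih
    obtain ⟨h1, h2⟩ := deg_biprod_structure k hE
    exact ⟨_, h1, h2.trans hd⟩

end Bundle

section Fibre

variable {Ω : Type u} [Field Ω] [IsAlgClosed Ω] {X : Scheme.{u}} (q : X ⟶ Spec (CommRingCat.of Ω))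

theorem meetPts_eq_empty [IrreducibleSpace X] : CurvSt.meetPts X (Set.univ : Set X) = ∅ := by
  ext p
  simp only [CurvSt.meetPts, Set.mem_empty_iff_false, iff_false]
  rintro ⟨-, E, hE, hne, -⟩
  rw [irreducibleComponents_eq_singleton] at hE
  exact hne hE

theorem kZ_univ : VecSt.kZ X (Set.univ : Set X) = 0 := by
  simp [VecSt.kZ]

theorem isSubcurve_iff [IrreducibleSpace X] {Z : Set X} (hZ : VecSt.IsSubcurve X Z) : Z = Set.univ := by
  obtain ⟨S, hS, ⟨E, hE⟩, rfl⟩ := hZ
  refine Set.eq_univ_of_univ_subset fun x _ => ⟨E, hE, ?_⟩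
  have := hS hE
  rw [irreducibleComponents_eq_singleton] at this
  rw [this]
  trivial

theorem isAdmissible_of_irreducible [IrreducibleSpace X] (E : X.Modules) (r : ℕ) :
    VecBal.IsAdmissible Ω X q E r := by
  intro m c
  exfalso
  have h1 := c.encard_meetPts ⟨0, c.pos⟩
  have h2 := c.mem_irreducibleComponents ⟨0, c.pos⟩
  rw [irreducibleComponents_eq_singleton] at h2
  rw [Set.mem_singleton_iff.1 h2, meetPts_eq_empty] at h1
  simp at h1

/-- On an integral curve of genus `g` every bundle of degree `d` satisfies the basic inequality. -/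
theorem balanced_of_irreducible [IsIntegral X] [IsProper q] (hdim : topologicalKrullDim X = 1) {g : ℕ}
    (hg : letI : X.Over (Spec (CommRingCat.of Ω)) := ⟨q⟩
      Curv2.genus Ω X = g) (E : X.Modules) (r : ℕ) (d : ℤ)
    (hd : letI : X.Over (Spec (CommRingCat.of Ω)) := ⟨q⟩
      Curv2.deg Ω X E r = d) : VecSt.Balanced Ω X q E r d g := by
  intro Z hZ hsub
  obtain rfl := isSubcurve_iff hsub
  letI : X.Over (Spec (CommRingCat.of Ω)) := ⟨q⟩
  letI : (VecSt.subsch X Set.univ hZ).Over (Spec (CommRingCat.of Ω)) := ⟨VecSt.subschι X Set.univ hZ ≫ q⟩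
  haveI : IsProper (X ↘ Spec (CommRingCat.of Ω)) := ‹IsProper q›
  haveI : Surjective (VecSt.subschι X Set.univ hZ) := ⟨Set.range_eq_univ.mp (by
    rw [Scheme.IdealSheafData.range_subschemeι]
    simp)⟩
  haveI : IsIso (VecSt.subschι X Set.univ hZ) := isIso_of_isClosedImmersion_of_surjective _
  have h1 : Curv2.deg Ω (VecSt.subsch X Set.univ hZ)
      ((Scheme.Modules.pullback (VecSt.subschι X Set.univ hZ)).obj E) r = Curv2.deg Ω X E r :=
    CurvesC.DegIso.deg_pullback_iso Ω (asIso (VecSt.subschι X Set.univ hZ)) rfl E r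
  have h2 : Curv2.euler Ω (VecSt.subsch X Set.univ hZ) (Coh.structureModule (VecSt.subsch X Set.univ hZ)) =
      Curv2.euler Ω X (Coh.structureModule X) := by
    rw [← CurvesC.DegIso.euler_pullback_iso Ω (asIso (VecSt.subschι X Set.univ hZ)) rfl (Coh.structureModule X)]
    exact CurvesC.DegIso.euler_congr Ω (CurvesA.HHMap.pullbackUnit _).symm
  have h3 : Curv2.euler Ω X (Coh.structureModule X) = 1 - g := by
    rw [CurvesC.CurveCoh.euler_eq Ω X hdim, VarietyA.CurveFin.finrank_h0_structure Ω X]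
    have : Module.finrank Ω (Coh.HH X (Coh.structureModule X) 1) = g := hg
    rw [this]
    simp
  rw [h1, h2, h3, kZ_univ, show Curv2.deg Ω X E r = d from hd]
  have h4 : (2 * (g : ℤ) - 2) * d - d * (((0 : ℕ) : ℤ) - 2 * (1 - (g : ℤ))) = 0 := by
    push_cast
    ring
  rw [h4]
  simp

/-- An irreducible smooth curve of genus `≥ 1` is semistable. -/
theorem isSemistablePtd_of_smooth [Smooth q] [IsProper q] [IrreducibleSpace X]
    (hdim : topologicalKrullDim X = 1) {g : ℕ} (hg0 : g ≠ 0)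
    (hg : letI : X.Over (Spec (CommRingCat.of Ω)) := ⟨q⟩
      Curv2.genus Ω X = g) : VecSt.IsSemistablePtd Ω X q g := by
  haveI : IsReduced X := Flat2B.SmoothGeom.isReduced_of_smooth q
  refine ⟨inferInstance, inferInstance, hdim,
    ⟨Groth.Agent.Models.H112.NodalFam.atWorstNodal_of_smooth q, hg⟩, ?_⟩
  rintro E ⟨hE, e, he, heq, hr⟩
  exfalso
  have hEu : E = Set.univ := by
    rw [irreducibleComponents_eq_singleton] at hE
    exact hE
  subst hEu
  have h0 := K310.ExistsCurve.genus_eq_zero_of_range_eq_univ q e heq hr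
  exact hg0 (hg.symm.trans h0)

/-- The degree of a quasi-coherent module does not change under extension of the (algebraically closed) ground field. -/
theorem deg_of_isPullback {Ω' : Type u} [Field Ω'] (t : Spec (CommRingCat.of Ω') ⟶ Spec (CommRingCat.of Ω))
    {X' : Scheme.{u}} {i : X' ⟶ X} {q' : X' ⟶ Spec (CommRingCat.of Ω')} (h : IsPullback i q' q t) [IsProper q]
    (E : X.Modules) (hE : Coh.IsQCoh E) (r : ℕ) :
    (letI : X'.Over (Spec (CommRingCat.of Ω')) := ⟨q'⟩
     Curv2.deg Ω' X' ((Scheme.Modules.pullback i).obj E) r) =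
    (letI : X.Over (Spec (CommRingCat.of Ω)) := ⟨q⟩
     Curv2.deg Ω X E r) := by
  letI : Algebra Ω Ω' := (Spec.preimage t).hom.toAlgebra
  letI : X'.Over (Spec (CommRingCat.of Ω')) := ⟨q'⟩
  letI : X.Over (Spec (CommRingCat.of Ω)) := ⟨q⟩
  haveI : IsProper (X ↘ Spec (CommRingCat.of Ω)) := ‹IsProper q›
  have ht : t = Spec.map (CommRingCat.ofHom (algebraMap Ω Ω')) := by
    rw [show CommRingCat.ofHom (algebraMap Ω Ω') = Spec.preimage t from rfl, Spec.map_preimage]
  exact CurvesB.VABaseChange.deg_eq (show IsPullback i (X' ↘ Spec (CommRingCat.of Ω'))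
    (X ↘ Spec (CommRingCat.of Ω)) (Spec.map (CommRingCat.ofHom (algebraMap Ω Ω'))) from ht ▸ h) E hE r

end Fibre

/-- The fibre of the stack of properly balanced bundles over a geometric point is nonempty. -/
theorem nonempty_fiber {S : Scheme.{u}} (g r : ℕ) (d : ℤ) (hg : 1 ≤ g) (hr : 1 ≤ r) (Ω : Type u) [Field Ω]
    [IsAlgClosed Ω] (t : Spec (CommRingCat.of Ω) ⟶ S) :
    Nonempty ((VecBal.Vecrdg S g r d).p.Fiber (Over.mk t)) := by
  obtain ⟨X, q, hX, hsm, hpr, hirr, hfib⟩ := K310.ExistsCurve.exists_isCurveOfGenus Ω g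
  obtain ⟨-, -, hint, hdim⟩ := id hX
  letI : X.Over (Spec (CommRingCat.of Ω)) := ⟨q⟩
  haveI : IsProper (X ↘ Spec (CommRingCat.of Ω)) := hpr
  haveI : Smooth (X ↘ Spec (CommRingCat.of Ω)) := hsm
  obtain ⟨r, rfl⟩ : ∃ r', r = r' + 1 := ⟨r - 1, by omega⟩
  obtain ⟨E, hE, hd⟩ := exists_bundle Ω hdim d r (X := X)
  have hEF := isFinLocFree_of_rank hE
  have hfacts : ∀ (Ω' : Type u) [Field Ω'] [IsAlgClosed Ω'] (s : Spec (CommRingCat.of Ω') ⟶ Spec (CommRingCat.of Ω))
      (X' : Scheme.{u}) (i : X' ⟶ X) (q' : X' ⟶ Spec (CommRingCat.of Ω')), IsPullback i q' q s →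
      Smooth q' ∧ IsProper q' ∧ IrreducibleSpace X' ∧ topologicalKrullDim X' = 1 ∧
        (letI : X'.Over (Spec (CommRingCat.of Ω')) := ⟨q'⟩
         Curv2.genus Ω' X' = g) ∧
        (letI : X'.Over (Spec (CommRingCat.of Ω')) := ⟨q'⟩
         Curv2.deg Ω' X' ((Scheme.Modules.pullback i).obj E) (r + 1) = d) := by
    intro Ω' _ _ s X' i q' hP
    obtain ⟨h1, h2⟩ := hfib Ω' s X' i q' hP
    exact ⟨MorphismProperty.of_isPullback hP hsm, MorphismProperty.of_isPullback hP hpr,
      GeometricallyIrreducible.geometrically_irreducibleSpace (f := q) _ _ _ hP, h1, h2,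
      (deg_of_isPullback q s hP E (PerfA.CohSerre.isCoh_of_isFinLocFree hEF).1 (r + 1)).trans hd⟩
  refine ⟨⟨⟨{ base := Over.mk t, C := X, f := q, sect := Fin.elim0, sect_f := fun j => j.elim0, E := E },
    ⟨inferInstance, hpr, ?_⟩, ⟨Sga2lef.H298.VanX0Core.isFlatOver_of_isFinLocFree q hEF,
      Desc.FinLocFreeSections.isFP_of_isFinLocFree hEF, ?_⟩, ?_, ?_⟩, rfl⟩⟩
  · intro Ω' _ _ s X' i q' hP
    obtain ⟨h1, h2, h3, h4, h5, -⟩ := hfacts Ω' s X' i q' hP
    exact isSemistablePtd_of_smooth q' h4 (by omega) h5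
  · intro Ω' _ _ s X' i q' hP
    exact PerfB.FibreConc.isFinLocFreeOfRank_pullback i hE
  · intro Ω' _ _ s X' i q' hP
    exact (hfacts Ω' s X' i q' hP).2.2.2.2.2
  · intro Ω' _ _ s X' i q' hP
    obtain ⟨h1, h2, h3, h4, h5, h6⟩ := hfacts Ω' s X' i q' hP
    haveI : IsReduced X' := Flat2B.SmoothGeom.isReduced_of_smooth q'
    haveI : IsIntegral X' := isIntegral_of_irreducibleSpace_of_isReduced X'
    exact ⟨balanced_of_irreducible q' h4 h5 _ _ _ h6, isAdmissible_of_irreducible q' _ _⟩

/-- Job J5. -/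
theorem main : Groth.Agent.VecBal.K812.Iface.NonemptyStmt := by
  intro k _ _ _ g r d hg hr Ω _ _ t
  exact nonempty_fiber g r d (by omega) hr Ω t

end Groth.Agent.VecBal.K247.NonemptyObj
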